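import Cfsg.Agent.Lib.Spor.HSType.Cert.H223.Data

/-!
Checks of a part of the derivation.
-/

set_option autoImplicit false

namespace CfsgLib.Spor.HSType.Cert.H223

open CfsgLib.Spor.TC

def scodes0 : List ℕ := [
  0x1,
  0x1,
  0x10000100003,
  0x10000200003,
  0x1,
  0x2000040000a00004000010000100002,
  0x1000080000200003000010000500002,
  0x1,
  0x1,
  0x1,
  0x1,
  0x100005000020001000012000140001600006000010000600002,
  0x1,
  0x1,
  0x1,
  0x1,
  0x1,
  0x1,
  0x1,
  0x25000080002600002000010000a00002,
  0x1,
  0xc000260002a00003000010000b00002,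
  0x1,
  0x1,
  0xc0002e0003000003000010001000002,
  0x3000010002e00002000010001100002,
  0x1,
  0x1,
  0x1,
  0x1,
  0x1,
  0x1,
  0x1,
  0x1,
  0x1,
  0x1,
  0x1,
  0x1,
  0x1,
  0x1,
  0x1,
  0x1,
  0x1,
  0x1,
  0x1,
  0x3000010002e00036000380003a0003c0003e00040000420004400046000480004a0004c0004e0005000052000540005600058000570005a00016000010001300002,
  0x1,
  0x190000f0000d0001000003000020000400002,
  0x13000110000f000040005b000590005800005000020000600002,
  0x1,
  0x1,
  0x1,
  0x1,
  0x1f0001d0001b000190000f000040005b0006400066000680006a00007000020000700002,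
  0x1,
  0x1,
  0x1,
  0x1,
  0x1,
  0x1,
  0x1,
  0x1,
  0x1,
  0x1,
  0x1,
  0x1,
  0x1,
  0x1,
  0x1,
  0x1,
  0x1,
  0x1,
  0x1,
  0x1,
  0x9000030006e00070000720007400076000780007a0007c0007e00080000820008400086000880008a0008c0008e0009000092000910009400016000020001300002,
  0x1,
  0x570005a0005c0000a00095000930009200005000030000600002,
  0x1,
  0x1,
  0x1,
  0x1,
  0x690006700065000630005c0009c0009e000a0000a200005000030000c00002,
  0x9c00002000030000d00002,
  0x1,
  0x5d0000b00009000a800002000030001100002,
  0xa8000aa00004,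
  0x9100094000960000c0000600002000170002200006000040000600002,
  0x23000ae0009a00004,
  0x61000b000004,
  0x58000b000004,
  0x9b0000a0002b00002000040000b00002,
  0xac0000a0003100002000040001000002,
  0x97000010000b0003100002000040001100002,
  0x98000b900004,
  0x1,
  0xa600003000010000b00031000be00003000040001200002,
  0x1,
  0x1,
  0x11000c2000c400003000050000500002,
  0x1,
  0xc5000c800003000060000300002,
  0x1,
  0x1,
  0x1,
  0x1,
  0x1,
  0x1,
  0x1,
  0x1,
  0x13000cc000ce000d0000d2000d4000d6000d8000da00009000060001400002,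
  0x1,
  0x1,
  0x15000de000e000003000070000b00002,
  0x1,
  0x1,
  0x15000e4000e600003000070001000002,
  0x1,
  0x21000e1000ea00003000080000b00002,
  0x1,
  0x21000e7000ee00003000080001000002,
  0x1,
  0x1b0005f00012000c900004000090000500002,
  0xc9000f400004,
  0x1,
  0x13000f50001e00020000f8000020000c0000400002,
  0xf8000fa000db00004,
  0xdb000fc00004,
  0x6c000fe000b1000030000c0000500002,
  0x1,
  0x23000eb00102000030000d0000b00002,
  0x1,
  0x23000ef00106000030000d0001000002,
  0xa4000ff00103000020000e0000a00002,
  0xf1000220002400107000020000e0001100002,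
  0x1070010c00004,
  0x1,
  0x1,
  0x1,
  0x1,
  0x1,
  0x1,
  0xc00009e000a0000a200109001040010d00110001120011400116001180011a000080000e0001500002,
  0x1,
  0x11d000270011e000020000f0000f00002,
  0xc0000b5000290011e000020000f0001100002,
  0x1210011f0012200004,
  0x340005b00059000b30010d00110001120011400116001180011a0011c00123000bd0000f000110001500002,
  0x1250002f00125000b800004,
  0xbb001260003400004,
  0x5e00128000340012a00004,
  0x20012c00004]

set_option maxRecDepth 100000 in
theorem steps0 : cert.SStepsOK 0 151 :=
  Cert.SStepsOK.of_check _ (codes := scodes0) (by decide +kernel)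

end CfsgLib.Spor.HSType.Cert.H223
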